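import Cfsg.Agent.H58.TCPres

set_option autoImplicit false
set_option Elab.async false
set_option maxRecDepth 100000

namespace Cfsg.Agent.H17.HnK2

open Cfsg.Agent.H58

noncomputable def tb0 : Nat → Nat := (lf (nat_lit 0x108000041000011000004300000000000000000000000000000000000000000000000000000000000000000000000000000000000000000000000000000000000000000000000000000000000000000000000000000000000000000000000000000000000000000000000000000000000000000000000000000000000000000000000000000000000000000000000000000000000000000000000000000000000000000000000000000000000000000000000000000000000000000000000000000000044000010000001000000300000080000010000114000005))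
noncomputable def rk0 : Nat → Nat := (lf (nat_lit 0x100000))
noncomputable def st0 : Nat → Nat := (lf (nat_lit 0x2080003f000080060000fc0001c00003e03))
noncomputable def cl0 : Nat → Nat := (lf (nat_lit 0x1e80003f0000fc0001f40003d80007f))
def iv : Nat := 82494142169014799965759340548224

def rels : List (List Nat) := [[17, 5, 3, 5],
  [5, 1, 5, 1]]

noncomputable def tbl : Nat → Nat := (nd (nat_lit 1) tb0 (lf (nat_lit 0)))
noncomputable def rnk : Nat → Nat := (nd (nat_lit 1) rk0 (lf (nat_lit 0)))
noncomputable def str : Nat → Nat := (nd (nat_lit 1) st0 (lf (nat_lit 0)))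
noncomputable def clo : Nat → Nat := (nd (nat_lit 1) cl0 (lf (nat_lit 0)))
def tree : ST := (ST.node (ST.node ST.nil (nat_lit 1) (nat_lit 0) (nat_lit 0) ST.nil) (nat_lit 18092353) (nat_lit 3) (nat_lit 3) (ST.node ST.nil (nat_lit 18157891) (nat_lit 1) (nat_lit 2) ST.nil))

theorem d0 : sumPow (grd 1 (defn tbl rnk (okPair iv))) 6 0 = 0 := by decide +kernel
theorem s0 : sumPow (grd 1 (chunk tbl (okRule iv tree) str 9)) 3 0 = 0 := by decide +kernel
theorem c0 : sumPow (clchunk tbl clo 639 127 3 302231477421655631855617) 11 0 = 0 := by decide +kernel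

noncomputable def C : Cert := ⟨tbl, rnk, str, clo, tree, 1, 31, 9, 1, [1, 3, 16]⟩

theorem good : C.Good rels iv :=
  ⟨by decide, by decide +kernel,
   all_lt_of_gblocks _ 6 1 1 (by decide) (blocks_cons (blocks_nil _) d0),
   by decide +kernel,
   all_lt_of_gblocks _ 3 1 1 (by decide) (blocks_cons (blocks_nil _) s0)⟩

theorem closed : C.Closed [1, 3, 5] 1 :=
  ⟨by decide, by decide, 639, 127, 3, 302231477421655631855617, by decide, by decide, by decide +kernel,
    all_lt_of_blocks _ 11 1 1 (by decide) (blocks_cons (blocks_nil _) c0)⟩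

theorem relIndex_le {G : Type*} [Group G] {el : ℕ → G} (R : RuleOK el rels iv) (H : Subgroup G)
    (hfix : ∀ x ∈ ([1, 3, 16] : List ℕ), el x ∈ H) :
    H.relIndex (Subgroup.closure (el '' {x | x ∈ ([1, 3, 5] : List ℕ)})) ≠ 0 ∧
      H.relIndex (Subgroup.closure (el '' {x | x ∈ ([1, 3, 5] : List ℕ)})) ≤ 2 :=
  Cert.relIndex_le good closed R H hfix


end Cfsg.Agent.H17.HnK2
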