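import Cfsg.Agent.H58.TCPres

set_option autoImplicit false
set_option Elab.async false
set_option maxRecDepth 100000

namespace Cfsg.Agent.H17.HnT2

open Cfsg.Agent.H58

noncomputable def tb0 : Nat → Nat := (lf (nat_lit 0x13800004f000010c000044000002c00004a00000000000000000000000000000000000000000000000000000000000000000000000000000000000000000000000000000000000000000000000000000000000000000000000000000000000000000000000000000000000000000000000000000000000000000000000000000000000000000000000000000000000000000000000000000000000000000000000000000000000000000000000000000000000000000000000000000000000000000000000000000000000000000000003c00000e0000010000003000012c00000a))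
noncomputable def rk0 : Nat → Nat := (lf (nat_lit 0x100000))
noncomputable def st0 : Nat → Nat := (lf (nat_lit 0x10c0001f800042030000820000fc000200180003f01))
noncomputable def cl0 : Nat → Nat := (lf (nat_lit 0x1e00003a00007e0001f40003d80007f))
def iv : Nat := 82494142169014799965759340548224

def rels : List (List Nat) := [[3, 3, 3, 3, 3, 3],
  [10, 10],
  [10, 3, 11, 4],
  [14, 14],
  [14, 3, 14, 3, 14, 3, 14, 3],
  [14, 3, 3, 14, 3, 3, 14, 3, 3],
  [10, 14, 11, 15]]

noncomputable def tbl : Nat → Nat := (nd (nat_lit 1) tb0 (lf (nat_lit 0)))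
noncomputable def rnk : Nat → Nat := (nd (nat_lit 1) rk0 (lf (nat_lit 0)))
noncomputable def str : Nat → Nat := (nd (nat_lit 1) st0 (lf (nat_lit 0)))
noncomputable def clo : Nat → Nat := (nd (nat_lit 1) cl0 (lf (nat_lit 0)))
def tree : ST := (ST.node (ST.node (ST.node ST.nil (nat_lit 1) (nat_lit 0) (nat_lit 0) ST.nil) (nat_lit 4746) (nat_lit 3) (nat_lit 1) ST.nil) (nat_lit 19673732) (nat_lit 5) (nat_lit 3) (ST.node ST.nil (nat_lit 19718799) (nat_lit 13) (nat_lit 3) ST.nil))

theorem d0 : sumPow (grd 1 (defn tbl rnk (okPair iv))) 6 0 = 0 := by decide +kernel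
theorem s0 : sumPow (grd 1 (chunk tbl (okRule iv tree) str 9)) 3 0 = 0 := by decide +kernel
theorem c0 : sumPow (clchunk tbl clo 639 127 3 302231499939654506905603) 11 0 = 0 := by decide +kernel

noncomputable def C : Cert := ⟨tbl, rnk, str, clo, tree, 1, 31, 9, 1, [3, 14]⟩

theorem good : C.Good rels iv :=
  ⟨by decide, by decide +kernel,
   all_lt_of_gblocks _ 6 1 1 (by decide) (blocks_cons (blocks_nil _) d0),
   by decide +kernel,
   all_lt_of_gblocks _ 3 1 1 (by decide) (blocks_cons (blocks_nil _) s0)⟩

theorem closed : C.Closed [3, 14, 10] 1 :=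
  ⟨by decide, by decide, 639, 127, 3, 302231499939654506905603, by decide, by decide, by decide +kernel,
    all_lt_of_blocks _ 11 1 1 (by decide) (blocks_cons (blocks_nil _) c0)⟩

theorem relIndex_le {G : Type*} [Group G] {el : ℕ → G} (R : RuleOK el rels iv) (H : Subgroup G)
    (hfix : ∀ x ∈ ([3, 14] : List ℕ), el x ∈ H) :
    H.relIndex (Subgroup.closure (el '' {x | x ∈ ([3, 14, 10] : List ℕ)})) ≠ 0 ∧
      H.relIndex (Subgroup.closure (el '' {x | x ∈ ([3, 14, 10] : List ℕ)})) ≤ 2 :=
  Cert.relIndex_le good closed R H hfix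


end Cfsg.Agent.H17.HnT2
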