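import Cfsg.Agent.H58.TCPres

set_option autoImplicit false
set_option Elab.async false
set_option maxRecDepth 100000

namespace Cfsg.Agent.H17.HnT6

open Cfsg.Agent.H58

noncomputable def tb0 : Nat → Nat := (lf (nat_lit 0x20400010200002080000c100001180000c7000041c0000c600003100000c30000300000140000041c000146000050c0001440000410000103000021c0001060000210000083000010c000044000000000000000000000000000000000000000000000000000000000000000000000000000000000000000000000000000000000000000000000000000000000000000000000000000000000000000000000000000000000000000000000000000000000000000000000000000000000000000000000000000000000000000000000000000000000000000000000000000000000000000000000000000000000000000000100000030000008000001000051c000046000040400004200003080000410000218000007000011c000006))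
noncomputable def rk0 : Nat → Nat := (lf (nat_lit 0x50000400003000020000100000))
noncomputable def st0 : Nat → Nat := (lf (nat_lit 0x20000004000020000100400000000014c000240000500400000a00012408000018000040200000200001400000018000430000880000040002180004605000082000124000230000050400007e0000180001f018000000000040000040c0001e800043000072000100100001f80003400007c060000fc0001980003e03))
noncomputable def cl0 : Nat → Nat := (lf (nat_lit 0x1e00001c80003b0000560000c40001780002800007a0001f00003d80003e0000580001d40003980007f))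
def iv : Nat := 82494142169014799965759340548224

def rels : List (List Nat) := [[3, 3, 3, 3, 3, 3],
  [1, 1, 3, 1, 1, 4],
  [2, 4, 1, 3, 2, 4, 1, 3, 2, 4, 1, 3],
  [2, 3, 3, 1, 3, 3, 3, 2, 3, 3, 1, 3, 3, 3, 2, 3, 3, 1, 3, 3, 3],
  [1, 3, 1, 3, 1, 3, 1, 3, 1, 3, 1, 3, 1, 3, 1, 3],
  [1, 3, 1, 3, 3, 3, 1, 3, 1, 3, 3, 3, 1, 3, 1, 3, 3, 3, 1, 3, 1, 3, 3, 3],
  [6, 6, 6, 6, 6],
  [2, 6, 1, 6, 6],
  [7, 4, 6, 3]]

noncomputable def tbl : Nat → Nat := (nd (nat_lit 1) tb0 (lf (nat_lit 0)))
noncomputable def rnk : Nat → Nat := (nd (nat_lit 1) rk0 (lf (nat_lit 0)))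
noncomputable def str : Nat → Nat := (nd (nat_lit 1) st0 (lf (nat_lit 0)))
noncomputable def clo : Nat → Nat := (nd (nat_lit 1) cl0 (lf (nat_lit 0)))
def tree : ST := (ST.node (ST.node (ST.node (ST.node ST.nil (nat_lit 1) (nat_lit 0) (nat_lit 0) ST.nil) (nat_lit 4355) (nat_lit 0) (nat_lit 3) ST.nil) (nat_lit 4487) (nat_lit 0) (nat_lit 7) (ST.node (ST.node ST.nil (nat_lit 4550) (nat_lit 0) (nat_lit 6) ST.nil) (nat_lit 18366915) (nat_lit 17) (nat_lit 3) ST.nil)) (nat_lit 18624900) (nat_lit 17) (nat_lit 1) (ST.node (ST.node (ST.node ST.nil (nat_lit 1108893766) (nat_lit 15) (nat_lit 1) ST.nil) (nat_lit 1174691974) (nat_lit 15) (nat_lit 4) ST.nil) (nat_lit 1174954369) (nat_lit 15) (nat_lit 2) (ST.node (ST.node ST.nil (nat_lit 1176002950) (nat_lit 13) (nat_lit 4) ST.nil) (nat_lit 1193021890) (nat_lit 16) (nat_lit 2) ST.nil)))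

theorem d0 : sumPow (grd 5 (defn tbl rnk (okPair iv))) 6 0 = 0 := by decide +kernel
theorem s0 : sumPow (grd 1 (chunk tbl (okRule iv tree) str 9)) 3 0 = 0 := by decide +kernel
theorem c0 : sumPow (clchunk tbl clo 639 319 3 302231481925255259226113) 11 0 = 0 := by decide +kernel

noncomputable def C : Cert := ⟨tbl, rnk, str, clo, tree, 5, 27, 9, 1, [1, 3]⟩

theorem good : C.Good rels iv :=
  ⟨by decide, by decide +kernel,
   all_lt_of_gblocks _ 6 5 1 (by decide) (blocks_cons (blocks_nil _) d0),
   by decide +kernel,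
   all_lt_of_gblocks _ 3 1 1 (by decide) (blocks_cons (blocks_nil _) s0)⟩

theorem closed : C.Closed [1, 3, 6] 4 :=
  ⟨by decide, by decide, 639, 319, 3, 302231481925255259226113, by decide, by decide, by decide +kernel,
    all_lt_of_blocks _ 11 1 1 (by decide) (blocks_cons (blocks_nil _) c0)⟩

theorem relIndex_le {G : Type*} [Group G] {el : ℕ → G} (R : RuleOK el rels iv) (H : Subgroup G)
    (hfix : ∀ x ∈ ([1, 3] : List ℕ), el x ∈ H) :
    H.relIndex (Subgroup.closure (el '' {x | x ∈ ([1, 3, 6] : List ℕ)})) ≠ 0 ∧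
      H.relIndex (Subgroup.closure (el '' {x | x ∈ ([1, 3, 6] : List ℕ)})) ≤ 5 :=
  Cert.relIndex_le good closed R H hfix


end Cfsg.Agent.H17.HnT6
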