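import Cfsg.Agent.H58.TCPres

set_option autoImplicit false
set_option Elab.async false
set_option maxRecDepth 100000

namespace Cfsg.Agent.H17.HnT7

open Cfsg.Agent.H58

noncomputable def tb0 : Nat → Nat := (lf (nat_lit 0x52000018900000000000000000000000000000000000000000000000000000000000000000000000000000000000000000000000000000000000000000000000000000000000000000000000000000000000000000000000000000000000000000000000000000000000000000000000000000000000000000000000000000000000000000000000000000000000000000000000000000000000000000000000000000000000000000000000000000062000010900005240000c80000420000089000032400004800002200000090000124000008))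
noncomputable def rk0 : Nat → Nat := (lf (nat_lit 0x6000050000400003000020000100000))
noncomputable def st0 : Nat → Nat := (lf (nat_lit 0x1a80003900007a0000f80001d00003606))
noncomputable def cl0 : Nat → Nat := (lf (nat_lit 0x1d00001f0000780000ee0001f00003d80007f))
def iv : Nat := 82494142169014799965759340548224

def rels : List (List Nat) := [[8, 8, 8, 8, 8, 8, 8]]

noncomputable def tbl : Nat → Nat := (nd (nat_lit 1) tb0 (lf (nat_lit 0)))
noncomputable def rnk : Nat → Nat := (nd (nat_lit 1) rk0 (lf (nat_lit 0)))
noncomputable def str : Nat → Nat := (nd (nat_lit 1) st0 (lf (nat_lit 0)))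
noncomputable def clo : Nat → Nat := (nd (nat_lit 1) cl0 (lf (nat_lit 0)))
def tree : ST := (ST.node (ST.node ST.nil (nat_lit 1) (nat_lit 0) (nat_lit 0) ST.nil) (nat_lit 5026338869833) (nat_lit 2) (nat_lit 6) ST.nil)

theorem d0 : sumPow (grd 6 (defn tbl rnk (okPair iv))) 6 0 = 0 := by decide +kernel
theorem s0 : sumPow (grd 1 (chunk tbl (okRule iv tree) str 9)) 3 0 = 0 := by decide +kernel
theorem c0 : sumPow (clchunk tbl clo 639 447 1 67108872) 12 0 = 0 := by decide +kernel

noncomputable def C : Cert := ⟨tbl, rnk, str, clo, tree, 6, 26, 9, 1, []⟩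

theorem good : C.Good rels iv :=
  ⟨by decide, by decide +kernel,
   all_lt_of_gblocks _ 6 6 1 (by decide) (blocks_cons (blocks_nil _) d0),
   by decide +kernel,
   all_lt_of_gblocks _ 3 1 1 (by decide) (blocks_cons (blocks_nil _) s0)⟩

theorem closed : C.Closed [8] 6 :=
  ⟨by decide, by decide, 639, 447, 1, 67108872, by decide, by decide, by decide +kernel,
    all_lt_of_blocks _ 12 1 1 (by decide) (blocks_cons (blocks_nil _) c0)⟩

theorem relIndex_le {G : Type*} [Group G] {el : ℕ → G} (R : RuleOK el rels iv) (H : Subgroup G)
    (hfix : ∀ x ∈ ([] : List ℕ), el x ∈ H) :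
    H.relIndex (Subgroup.closure (el '' {x | x ∈ ([8] : List ℕ)})) ≠ 0 ∧
      H.relIndex (Subgroup.closure (el '' {x | x ∈ ([8] : List ℕ)})) ≤ 7 :=
  Cert.relIndex_le good closed R H hfix


end Cfsg.Agent.H17.HnT7
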