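import Cfsg.Agent.H58.TCPres

set_option autoImplicit false
set_option Elab.async false
set_option maxRecDepth 100000

namespace Cfsg.Agent.H17.ThT1

open Cfsg.Agent.H58

noncomputable def tb0 : Nat → Nat := (lf (nat_lit 0xc100003c40000b040003410000d0c000383000000000000000000000000000000000000000000000000000000000000000000000000000000000000000000000000000000000000000000000000000000000000000000000000000000000000000000000000000000000000000000000000000000000000000000000000000000000f0c0002c30000e100002840000d100002440000c0c0002030000b100001c40000a0c000183000090c0001430000810000104000070c0000c300006100000840000510000044000040c0000430000310000004000020c0000030000104000001))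
noncomputable def rk0 : Nat → Nat := (lf (nat_lit 0xf0000e0000d0000c0000b0000a00009000080000700006000050000400003000020000100000))
noncomputable def st0 : Nat → Nat := (lf (nat_lit 0x4e000004000158000330000760000f00001a00002c0800000200009c0001780003700007e0000f00001a00002c0800004a0000b40001a80003d00007c0000d80001700002608))
noncomputable def cl0 : Nat → Nat := (nd (nat_lit 1) (lf (nat_lit 0xe40001ac000368000740000de0001d80003c0000710000e60001e80003e0000750000f20001dc0003e80007b)) (lf (nat_lit 0xc40000ec0001f80006400007c0001980003400003a0000c60001a8000360000650000dc00019c00034800070)))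
def iv : Nat := 57419096369272418213952

def rels : List (List Nat) := [[1, 4, 3, 4, 3, 4, 3, 4, 3]]

noncomputable def tbl : Nat → Nat := (nd (nat_lit 1) tb0 (lf (nat_lit 0)))
noncomputable def rnk : Nat → Nat := (nd (nat_lit 1) rk0 (lf (nat_lit 0)))
noncomputable def str : Nat → Nat := (nd (nat_lit 1) st0 (lf (nat_lit 0)))
noncomputable def clo : Nat → Nat := (nd (nat_lit 2) cl0 (lf (nat_lit 0)))
def tree : ST := (ST.node (ST.node (ST.node ST.nil (nat_lit 1) (nat_lit 0) (nat_lit 0) ST.nil) (nat_lit 18876626130440388) (nat_lit 1) (nat_lit 7) ST.nil) (nat_lit 19153768558899459) (nat_lit 1) (nat_lit 4) (ST.node ST.nil (nat_lit 19153770722902209) (nat_lit 2) (nat_lit 8) ST.nil))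

theorem d0 : sumPow (grd 15 (defn tbl rnk (okPair iv))) 6 0 = 0 := by decide +kernel
theorem s0 : sumPow (grd 1 (chunk tbl (okRule iv tree) str 9)) 3 0 = 0 := by decide +kernel
theorem c0 : sumPow (clchunk tbl clo 639 1023 2 4503599895805955) 11 0 = 0 := by decide +kernel

noncomputable def C : Cert := ⟨tbl, rnk, str, clo, tree, 15, 17, 9, 1, []⟩

theorem good : C.Good rels iv :=
  ⟨by decide, by decide +kernel,
   all_lt_of_gblocks _ 6 15 1 (by decide) (blocks_cons (blocks_nil _) d0),
   by decide +kernel,
   all_lt_of_gblocks _ 3 1 1 (by decide) (blocks_cons (blocks_nil _) s0)⟩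

theorem closed : C.Closed [3, 4] 15 :=
  ⟨by decide, by decide, 639, 1023, 2, 4503599895805955, by decide, by decide, by decide +kernel,
    all_lt_of_blocks _ 11 2 1 (by decide) (blocks_cons (blocks_nil _) c0)⟩

theorem relIndex_le {G : Type*} [Group G] {el : ℕ → G} (R : RuleOK el rels iv) (H : Subgroup G)
    (hfix : ∀ x ∈ ([] : List ℕ), el x ∈ H) :
    H.relIndex (Subgroup.closure (el '' {x | x ∈ ([3, 4] : List ℕ)})) ≠ 0 ∧
      H.relIndex (Subgroup.closure (el '' {x | x ∈ ([3, 4] : List ℕ)})) ≤ 16 :=
  Cert.relIndex_le good closed R H hfix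


end Cfsg.Agent.H17.ThT1
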