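import Cfsg.Agent.H58.TCPres

set_option autoImplicit false
set_option Elab.async false
set_option maxRecDepth 100000

namespace Cfsg.Agent.H17.ThT3

open Cfsg.Agent.H58

noncomputable def tb0 : Nat → Nat := (lf (nat_lit 0x2140000850000210000084000020c00008300002080000820000204000081000012000008900001140000450000110000044000010c00004300001080000420000104000041000000000000000000000000000000000000000000000000000000000000000000000000000000000000000000000000000000000000000000000000000000000000000000000000000000000000000000000000000000000000000000000000000000000000000000000000000000000000000000000000000000000000000000000000000000000000000000000000000000000000000000000000000000000000000000140000050000010000004000000c0000030000008000002000000400000100002200000090000124000008))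
noncomputable def rk0 : Nat → Nat := (lf (nat_lit 0x20000100000))
noncomputable def st0 : Nat → Nat := (lf (nat_lit 0xa2000118000280180004f00008c0001380c000268000460000980600012c0002300004a0300009200011800024018000470000900400011c0001d0000460300008a0000e800022018000430000740001080c0002080003a000080060000fc0001d00003e03))
noncomputable def cl0 : Nat → Nat := (lf (nat_lit 0x1980003100005e0000b40001580007c00007e0000f40001d80003900006e0000d00003d8000790000ee0001d40003980007f))
def iv : Nat := 57419096369272418213952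

def rels : List (List Nat) := [[1, 2, 1, 2, 1, 2],
  [1, 5, 1, 5],
  [2, 3, 2, 3, 2, 3],
  [2, 4, 2, 4],
  [2, 5, 2, 5],
  [1, 4, 3, 4, 3, 4, 3, 4, 3],
  [3, 5, 3, 5],
  [4, 5, 4, 5, 4, 5],
  [2, 3, 4, 5, 2, 3, 4, 5, 2, 3, 4, 5, 2, 3, 4, 5, 2, 3, 4, 5, 2, 3, 4, 5, 2, 3, 4, 5, 2, 3, 4, 5],
  [8, 8, 8],
  [9, 1, 8, 1],
  [9, 2, 8, 2],
  [9, 3, 8, 3],
  [9, 4, 8, 4],
  [9, 5, 8, 5]]

noncomputable def tbl : Nat → Nat := (nd (nat_lit 1) tb0 (lf (nat_lit 0)))
noncomputable def rnk : Nat → Nat := (nd (nat_lit 1) rk0 (lf (nat_lit 0)))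
noncomputable def str : Nat → Nat := (nd (nat_lit 1) st0 (lf (nat_lit 0)))
noncomputable def clo : Nat → Nat := (nd (nat_lit 1) cl0 (lf (nat_lit 0)))
def tree : ST := (ST.node (ST.node (ST.node (ST.node ST.nil (nat_lit 1) (nat_lit 0) (nat_lit 0) ST.nil) (nat_lit 299593) (nat_lit 20) (nat_lit 2) (ST.node ST.nil (nat_lit 18879041) (nat_lit 22) (nat_lit 0) ST.nil)) (nat_lit 18883138) (nat_lit 24) (nat_lit 0) (ST.node (ST.node ST.nil (nat_lit 18887235) (nat_lit 26) (nat_lit 0) ST.nil) (nat_lit 18891332) (nat_lit 28) (nat_lit 0) ST.nil)) (nat_lit 18895429) (nat_lit 30) (nat_lit 0) (ST.node (ST.node (ST.node ST.nil (nat_lit 19141121) (nat_lit 22) (nat_lit 2) ST.nil) (nat_lit 19145218) (nat_lit 24) (nat_lit 2) ST.nil) (nat_lit 19149315) (nat_lit 26) (nat_lit 2) (ST.node (ST.node ST.nil (nat_lit 19153412) (nat_lit 28) (nat_lit 2) ST.nil) (nat_lit 19157509) (nat_lit 30) (nat_lit 2) ST.nil)))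

theorem d0 : sumPow (grd 2 (defn tbl rnk (okPair iv))) 6 0 = 0 := by decide +kernel
theorem s0 : sumPow (grd 1 (chunk tbl (okRule iv tree) str 9)) 3 0 = 0 := by decide +kernel
theorem c0 : sumPow (clchunk tbl clo 639 191 6 91343863222217275269810360056940371709526016001) 10 0 = 0 := by decide +kernel

noncomputable def C : Cert := ⟨tbl, rnk, str, clo, tree, 2, 30, 9, 1, [1, 2, 3, 4, 5]⟩

theorem good : C.Good rels iv :=
  ⟨by decide, by decide +kernel,
   all_lt_of_gblocks _ 6 2 1 (by decide) (blocks_cons (blocks_nil _) d0),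
   by decide +kernel,
   all_lt_of_gblocks _ 3 1 1 (by decide) (blocks_cons (blocks_nil _) s0)⟩

theorem closed : C.Closed [1, 2, 3, 4, 5, 8] 2 :=
  ⟨by decide, by decide, 639, 191, 6, 91343863222217275269810360056940371709526016001, by decide, by decide, by decide +kernel,
    all_lt_of_blocks _ 10 1 1 (by decide) (blocks_cons (blocks_nil _) c0)⟩

theorem relIndex_le {G : Type*} [Group G] {el : ℕ → G} (R : RuleOK el rels iv) (H : Subgroup G)
    (hfix : ∀ x ∈ ([1, 2, 3, 4, 5] : List ℕ), el x ∈ H) :
    H.relIndex (Subgroup.closure (el '' {x | x ∈ ([1, 2, 3, 4, 5, 8] : List ℕ)})) ≠ 0 ∧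
      H.relIndex (Subgroup.closure (el '' {x | x ∈ ([1, 2, 3, 4, 5, 8] : List ℕ)})) ≤ 3 :=
  Cert.relIndex_le good closed R H hfix


end Cfsg.Agent.H17.ThT3
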