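import Cfsg.Agent.H58.TCPres

set_option autoImplicit false
set_option Elab.async false
set_option maxRecDepth 100000

namespace Cfsg.Agent.H17.ThT5

open Cfsg.Agent.H58

noncomputable def tb0 : Nat → Nat := (lf (nat_lit 0x21c00008600002140000850000210000084000020c000083000020800008200002040000810000120000089000011c00004600001140000450000110000044000010c00004300001080000420000104000041000000000000000000000000000000000000000000000000000000000000000000000000000000000000000000000000000000000000000000000000000000000000000000000000000000000000000000000000000000000000000000000000000000000000000000000000000000000000000000000000000000000000000000000000000000000000000000000000000000000000000000000000000001c00000600000140000050000010000004000000c0000030000008000002000000400000100002200000090000124000008))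
noncomputable def rk0 : Nat → Nat := (lf (nat_lit 0x20000100000))
noncomputable def st0 : Nat → Nat := (lf (nat_lit 0x140000300000600000b040000a600012000029018000510000900001400c0002780004800009c060001340002400004c030000960001200002501800049000094040001240001d00003a0000900800011c0001d0000460300008a0000e800022018000430000740001080c0002080003a000080060000fc0001d00003e03))
noncomputable def cl0 : Nat → Nat := (lf (nat_lit 0x3100005e0000b40001580002900004e0001f00001f80003d0000760000e40001b8000350000640001ec0003c8000770000ea0001cc0003880007f))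
def iv : Nat := 57419096369272418213952

def rels : List (List Nat) := [[1, 2, 1, 2, 1, 2],
  [1, 5, 1, 5],
  [2, 3, 2, 3, 2, 3],
  [2, 4, 2, 4],
  [2, 5, 2, 5],
  [1, 4, 3, 4, 3, 4, 3, 4, 3],
  [3, 5, 3, 5],
  [4, 5, 4, 5, 4, 5],
  [2, 3, 4, 5, 2, 3, 4, 5, 2, 3, 4, 5, 2, 3, 4, 5, 2, 3, 4, 5, 2, 3, 4, 5, 2, 3, 4, 5, 2, 3, 4, 5],
  [6, 6, 6, 6, 6, 6, 6],
  [7, 1, 6, 1],
  [7, 2, 6, 2],
  [7, 3, 6, 3],
  [6, 4, 6, 4],
  [5, 7, 5, 7, 7, 5, 6, 6, 6],
  [8, 8, 8],
  [9, 1, 8, 1],
  [9, 2, 8, 2],
  [9, 3, 8, 3],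
  [9, 4, 8, 4],
  [9, 5, 8, 5],
  [9, 6, 8, 7, 7]]

noncomputable def tbl : Nat → Nat := (nd (nat_lit 1) tb0 (lf (nat_lit 0)))
noncomputable def rnk : Nat → Nat := (nd (nat_lit 1) rk0 (lf (nat_lit 0)))
noncomputable def str : Nat → Nat := (nd (nat_lit 1) st0 (lf (nat_lit 0)))
noncomputable def clo : Nat → Nat := (nd (nat_lit 1) cl0 (lf (nat_lit 0)))
def tree : ST := (ST.node (ST.node (ST.node (ST.node ST.nil (nat_lit 1) (nat_lit 0) (nat_lit 0) ST.nil) (nat_lit 299593) (nat_lit 32) (nat_lit 2) (ST.node ST.nil (nat_lit 18879041) (nat_lit 34) (nat_lit 0) ST.nil)) (nat_lit 18883138) (nat_lit 36) (nat_lit 0) (ST.node (ST.node ST.nil (nat_lit 18887235) (nat_lit 38) (nat_lit 0) ST.nil) (nat_lit 18891332) (nat_lit 40) (nat_lit 0) ST.nil)) (nat_lit 18895429) (nat_lit 42) (nat_lit 0) (ST.node (ST.node (ST.node ST.nil (nat_lit 19141121) (nat_lit 34) (nat_lit 2) ST.nil) (nat_lit 19145218) (nat_lit 36) (nat_lit 2) (ST.node ST.nil (nat_lit 19149315) (nat_lit 38) (nat_lit 2) ST.nil)) (nat_lit 19153412) (nat_lit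 40) (nat_lit 2) (ST.node (ST.node ST.nil (nat_lit 19157509) (nat_lit 42) (nat_lit 2) ST.nil) (nat_lit 1226600966) (nat_lit 43) (nat_lit 1) ST.nil)))

theorem d0 : sumPow (grd 2 (defn tbl rnk (okPair iv))) 6 0 = 0 := by decide +kernel
theorem s0 : sumPow (grd 1 (chunk tbl (okRule iv tree) str 9)) 3 0 = 0 := by decide +kernel
theorem c0 : sumPow (clchunk tbl clo 639 191 7 6129982894214382265661754725016003397792289843585220609) 10 0 = 0 := by decide +kernel

noncomputable def C : Cert := ⟨tbl, rnk, str, clo, tree, 2, 30, 9, 1, [1, 2, 3, 4, 5, 6]⟩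

theorem good : C.Good rels iv :=
  ⟨by decide, by decide +kernel,
   all_lt_of_gblocks _ 6 2 1 (by decide) (blocks_cons (blocks_nil _) d0),
   by decide +kernel,
   all_lt_of_gblocks _ 3 1 1 (by decide) (blocks_cons (blocks_nil _) s0)⟩

theorem closed : C.Closed [1, 2, 3, 4, 5, 6, 8] 2 :=
  ⟨by decide, by decide, 639, 191, 7, 6129982894214382265661754725016003397792289843585220609, by decide, by decide, by decide +kernel,
    all_lt_of_blocks _ 10 1 1 (by decide) (blocks_cons (blocks_nil _) c0)⟩

theorem relIndex_le {G : Type*} [Group G] {el : ℕ → G} (R : RuleOK el rels iv) (H : Subgroup G)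
    (hfix : ∀ x ∈ ([1, 2, 3, 4, 5, 6] : List ℕ), el x ∈ H) :
    H.relIndex (Subgroup.closure (el '' {x | x ∈ ([1, 2, 3, 4, 5, 6, 8] : List ℕ)})) ≠ 0 ∧
      H.relIndex (Subgroup.closure (el '' {x | x ∈ ([1, 2, 3, 4, 5, 6, 8] : List ℕ)})) ≤ 3 :=
  Cert.relIndex_le good closed R H hfix


end Cfsg.Agent.H17.ThT5
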